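import Cfsg.Agent.ClMax99.InvSL

/-!
Commuting pairs behind elements of order a product of two primes in `PSL_n(q)`.
-/

set_option autoImplicit false
set_option linter.unusedSectionVars false

namespace Cfsg.Agent.PrimeGraphPSL

open Matrix Module Cfsg.Agent.ClMax99

universe u

variable {F : Type u} [Field F] {n : ℕ}

/-- Scalar matrices. -/
def IsScal (M : Matrix (Fin n) (Fin n) F) : Prop := ∃ c : F, M = c • 1

theorem mk_eq_one_iff (X : Matrix.SpecialLinearGroup (Fin n) F) :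
    (QuotientGroup.mk X : Matrix.ProjectiveSpecialLinearGroup (Fin n) F) = 1 ↔
      IsScal (X : Matrix (Fin n) (Fin n) F) := by
  rw [QuotientGroup.eq_one_iff, Matrix.SpecialLinearGroup.mem_center_iff]
  constructor
  · rintro ⟨c, -, hc⟩
    exact ⟨c, by rw [← hc, Matrix.smul_one_eq_diagonal, Matrix.scalar_apply]⟩
  · rintro ⟨c, hc⟩
    refine ⟨c, ?_, by rw [hc, Matrix.smul_one_eq_diagonal, Matrix.scalar_apply]⟩
    have h := X.2
    rw [hc, Matrix.det_smul, Matrix.det_one, mul_one] at h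
    exact h

theorem exists_pair_of_mem {a b : ℕ} (ha : a.Prime) (hb : b.Prime)
    (h : a * b ∈ Set.range (orderOf : Matrix.ProjectiveSpecialLinearGroup (Fin n) F → ℕ)) :
    ∃ X Y : Matrix.SpecialLinearGroup (Fin n) F, Commute X Y ∧
      IsScal ((X : Matrix (Fin n) (Fin n) F) ^ a) ∧ ¬ IsScal (X : Matrix (Fin n) (Fin n) F) ∧
      IsScal ((Y : Matrix (Fin n) (Fin n) F) ^ b) ∧ ¬ IsScal (Y : Matrix (Fin n) (Fin n) F) := by
  obtain ⟨g, hg⟩ := h
  obtain ⟨G, rfl⟩ := QuotientGroup.mk_surjective g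
  have h1 : ((QuotientGroup.mk G : Matrix.ProjectiveSpecialLinearGroup (Fin n) F)) ^ (a * b) = 1 := by
    rw [← hg]; exact pow_orderOf_eq_one _
  have hne : ∀ m, 0 < m → m < a * b →
      ¬ IsScal ((G ^ m : Matrix.SpecialLinearGroup (Fin n) F) : Matrix (Fin n) (Fin n) F) := by
    intro m hm hlt hs
    have h2 := orderOf_dvd_of_pow_eq_one ((QuotientGroup.mk_pow _ _ _).symm.trans ((mk_eq_one_iff _).2 hs))
    rw [hg] at h2
    exact absurd (Nat.le_of_dvd hm h2) (not_le.2 hlt)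
  rw [← QuotientGroup.mk_pow, mk_eq_one_iff, Matrix.SpecialLinearGroup.coe_pow] at h1
  refine ⟨G ^ b, G ^ a, (Commute.refl G).pow_pow _ _, ?_, hne b hb.pos ?_, ?_, hne a ha.pos ?_⟩
  · rw [Matrix.SpecialLinearGroup.coe_pow, ← pow_mul, mul_comm]; exact h1
  · exact lt_mul_left hb.pos ha.one_lt
  · rw [Matrix.SpecialLinearGroup.coe_pow, ← pow_mul]; exact h1
  · exact lt_mul_right ha.pos hb.one_lt

theorem mem_of_pair {a b : ℕ} (ha : a.Prime) (hb : b.Prime) (hab : a ≠ b)
    (X Y : Matrix.SpecialLinearGroup (Fin n) F) (hc : Commute X Y)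
    (hX : IsScal ((X : Matrix (Fin n) (Fin n) F) ^ a)) (hX' : ¬ IsScal (X : Matrix (Fin n) (Fin n) F))
    (hY : IsScal ((Y : Matrix (Fin n) (Fin n) F) ^ b)) (hY' : ¬ IsScal (Y : Matrix (Fin n) (Fin n) F)) :
    a * b ∈ Set.range (orderOf : Matrix.ProjectiveSpecialLinearGroup (Fin n) F → ℕ) := by
  have key : ∀ (m : ℕ), m.Prime → ∀ Z : Matrix.SpecialLinearGroup (Fin n) F,
      IsScal ((Z : Matrix (Fin n) (Fin n) F) ^ m) → ¬ IsScal (Z : Matrix (Fin n) (Fin n) F) →
      orderOf (QuotientGroup.mk Z : Matrix.ProjectiveSpecialLinearGroup (Fin n) F) = m := by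
    intro m hm Z h1 h2
    haveI := Fact.mk hm
    refine orderOf_eq_prime ?_ (fun e => h2 ((mk_eq_one_iff _).1 e))
    rw [← QuotientGroup.mk_pow, mk_eq_one_iff, Matrix.SpecialLinearGroup.coe_pow]
    exact h1
  refine ⟨QuotientGroup.mk X * QuotientGroup.mk Y, ?_⟩
  have hcomm : Commute (QuotientGroup.mk X : Matrix.ProjectiveSpecialLinearGroup (Fin n) F) (QuotientGroup.mk Y) :=
    hc.map (QuotientGroup.mk' _)
  rw [hcomm.orderOf_mul_eq_mul_orderOf_of_coprime, key a ha X hX hX', key b hb Y hY hY']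
  rw [key a ha X hX hX', key b hb Y hY hY']
  exact (Nat.coprime_primes ha hb).2 hab

variable [Fintype F]

/-- Normalisation when the prime does not divide `q - 1`. -/
theorem exists_normalised {r : ℕ} [Fact r.Prime] (h : ¬ r ∣ Fintype.card F - 1) (hn : 0 < n)
    (X : Matrix.SpecialLinearGroup (Fin n) F) (hX : IsScal ((X : Matrix (Fin n) (Fin n) F) ^ r)) :
    ∃ (w : F) (A : Matrix (Fin n) (Fin n) F), w ≠ 0 ∧ (X : Matrix (Fin n) (Fin n) F) = w • A ∧
      A ^ r = 1 ∧ A.det = 1 := by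
  obtain ⟨c, hc⟩ := hX
  obtain ⟨w, hw⟩ := Inv.exists_root_of_not_dvd (r := r) h (z := c)
  have hc0 : c ≠ 0 := Inv.scalar_ne_zero hn X.2 hc
  have hw0 : w ≠ 0 := fun e => hc0 (by rw [← hw, e, zero_pow (Fact.out : r.Prime).ne_zero])
  refine ⟨w, w⁻¹ • (X : Matrix (Fin n) (Fin n) F), hw0, by rw [smul_smul, mul_inv_cancel₀ hw0, one_smul], ?_, ?_⟩
  · rw [smul_pow, hc, smul_smul, ← hw, ← mul_pow, inv_mul_cancel₀ hw0, one_pow, one_smul]
  · rw [Matrix.det_smul, Fintype.card_fin, X.2, mul_one]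
    have h1 : (w ^ n) ^ r = 1 := by
      rw [← pow_mul, mul_comm, pow_mul, hw]
      have := congrArg Matrix.det hc
      rw [Matrix.det_pow, X.2, one_pow, Matrix.det_smul, Matrix.det_one, mul_one, Fintype.card_fin] at this
      exact this.symm
    have h2 := pow_gcd_eq_one.mpr ⟨h1, FiniteField.pow_card_sub_one_eq_one _ (pow_ne_zero n hw0)⟩
    rw [((Fact.out : r.Prime).coprime_iff_not_dvd.mpr h).gcd_eq_one, pow_one] at h2
    rw [inv_pow, h2, inv_one]

theorem not_isScal_smul {w : F} (hw : w ≠ 0) {A : Matrix (Fin n) (Fin n) F}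
    (h : ¬ IsScal (w • A)) : ¬ IsScal A := by
  rintro ⟨c, rfl⟩
  exact h ⟨w * c, smul_smul _ _ _⟩

theorem commute_of_smul {v w : F} (hv : v ≠ 0) (hw : w ≠ 0) {A B : Matrix (Fin n) (Fin n) F}
    (h : Commute (v • A) (w • B)) : Commute A B := by
  have h2 := h.eq
  rw [smul_mul_smul_comm, smul_mul_smul_comm, mul_comm w v] at h2
  exact smul_right_injective _ (mul_ne_zero hv hw) h2

theorem not_dvd_card_sub_one_of_two_le {r : ℕ} [Fact r.Prime]
    (h : 2 ≤ orderOf ((Fintype.card F : ℕ) : ZMod r)) : ¬ r ∣ Fintype.card F - 1 := fun e => by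
  rw [Inv.orderOf_eq_one_iff_dvd.mpr e] at h
  omega

theorem not_dvd_card_sub_one_char (p : ℕ) [Fact p.Prime] [CharP F p] : ¬ p ∣ Fintype.card F - 1 := by
  have := Inv.not_dvd_pow_sub_one (F := F) (p := p) (k := 1) le_rfl
  rwa [pow_one] at this

section End

variable {V : Type u} [AddCommGroup V] [Module F V] [FiniteDimensional F V] {f : Module.End F V}

theorem range_map_le {g : Module.End F V} (h : Commute f g) :
    (LinearMap.range g).map f ≤ LinearMap.range g := by
  rintro _ ⟨_, ⟨v, rfl⟩, rfl⟩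
  exact ⟨f v, (LinearMap.congr_fun h.eq v).symm⟩

theorem ker_map_le {g : Module.End F V} (h : Commute f g) :
    (LinearMap.ker g).map f ≤ LinearMap.ker g := by
  rintro _ ⟨v, hv, rfl⟩
  rw [LinearMap.mem_ker]
  rw [show g (f v) = f (g v) from (LinearMap.congr_fun h.eq v).symm, LinearMap.mem_ker.1 hv, map_zero]

theorem le_finrank_of_moved {r : ℕ} [Fact r.Prime] (hrF : (r : F) ≠ 0) (hf : f ^ r = 1)
    {W : Submodule F V} (hW : W.map f ≤ W) (hne : W.map (f - 1) ≠ ⊥) :
    orderOf (Fintype.card F : ZMod r) ≤ finrank F ↥(W.map (f - 1)) :=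
  Nat.le_of_dvd (Nat.pos_of_ne_zero fun e => hne (Submodule.finrank_eq_zero.1 e))
    (Inv.dvd_finrank_moved hrF hf hW)

theorem le_finrank_of_ne {r : ℕ} [Fact r.Prime] (hrF : (r : F) ≠ 0) (hf : f ^ r = 1) (hne : f ≠ 1) :
    orderOf (Fintype.card F : ZMod r) ≤ finrank F ↥(LinearMap.range (f - 1)) := by
  rw [← Submodule.map_top]
  refine le_finrank_of_moved hrF hf le_top ?_
  rw [Submodule.map_top, Ne, LinearMap.range_eq_bot, sub_eq_zero]
  exact hne

/-- An element fixing the image of a square-zero commuting map has at least two fixed dimensions. -/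
theorem finrank_range_add_two_le {r : ℕ} [Fact r.Prime] (hrF : (r : F) ≠ 0) (hf : f ^ r = 1)
    (M : Module.End F V) (hM : M ≠ 0) (hM2 : M * M = 0) (hc : Commute f M) (hfix : (f - 1) * M = 0) :
    finrank F ↥(LinearMap.range (f - 1)) + 2 ≤ finrank F V := by
  have hsum := LinearMap.finrank_range_add_finrank_ker (f - 1)
  suffices 2 ≤ finrank F ↥(LinearMap.ker (f - 1)) by omega
  by_contra hcon
  have hR : LinearMap.range M ≤ LinearMap.ker (f - 1) := by
    rintro _ ⟨v, rfl⟩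
    exact LinearMap.congr_fun hfix v
  have hRpos : 0 < finrank F ↥(LinearMap.range M) :=
    Nat.pos_of_ne_zero fun e => hM (LinearMap.range_eq_bot.1 (Submodule.finrank_eq_zero.1 e))
  have hker : LinearMap.ker (f - 1) ≤ LinearMap.ker M := by
    rw [← Submodule.eq_of_le_of_finrank_le hR (by omega)]
    rintro _ ⟨v, rfl⟩
    exact LinearMap.congr_fun hM2 v
  have hran : LinearMap.range (f - 1) ≤ LinearMap.ker M := by
    rintro _ ⟨v, rfl⟩
    have e : M * (f - 1) = (f - 1) * M := by rw [mul_sub, sub_mul, hc.eq, mul_one, one_mul]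
    exact LinearMap.congr_fun (e.trans hfix) v
  have htop : LinearMap.ker (f - 1) ⊔ LinearMap.range (f - 1) = ⊤ := by
    apply Submodule.eq_top_of_finrank_eq
    have := Submodule.finrank_sup_add_finrank_inf_eq (LinearMap.ker (f - 1)) (LinearMap.range (f - 1))
    rw [(Inv.disjoint_ker_range hrF hf).eq_bot, finrank_bot, add_zero] at this
    omega
  refine hM (LinearMap.ker_eq_top.1 (eq_top_iff.2 ?_))
  rw [← htop]
  exact sup_le hker hran

/-- Square-zero non-zero power of a nilpotent map. -/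
theorem exists_sq_zero (N : Module.End F V) (hN : N ≠ 0) {m : ℕ} (h : N ^ m = 0) :
    ∃ j : ℕ, N ^ j ≠ 0 ∧ N ^ j * N ^ j = 0 := by
  classical
  have hex : ∃ m, N ^ m = 0 := ⟨m, h⟩
  have h1 := Nat.find_spec hex
  have h2 : 2 ≤ Nat.find hex := by
    by_contra hc
    have hle : Nat.find hex ≤ 1 := by omega
    exact hN (by rw [← pow_one N]; exact pow_eq_zero_of_le hle h1)
  exact ⟨Nat.find hex - 1, Nat.find_min hex (by omega),
    by rw [← pow_add]; exact pow_eq_zero_of_le (by omega) h1⟩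

end End

end Cfsg.Agent.PrimeGraphPSL
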