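import Cfsg.Agent.PrimeGraphPSL.Basic
import Cfsg.Agent.KnownSimple58.Spectrum
import Cfsg.Agent.Lib.LinearGroup.Card

/-!
Block constructions of commuting elements of prime order in `SL_n(q)`.
-/

set_option autoImplicit false
set_option linter.unusedSectionVars false

namespace Cfsg.Agent.PrimeGraphPSL

open Cfsg.Agent.ClMax99 Module

universe u

variable {F : Type u} [Field F] [Fintype F] {n : ℕ}

/-- Block diagonal matrices of size `a + b = n`. -/
def blockMat {a b : ℕ} (h : a + b = n) (A : Matrix (Fin a) (Fin a) F) (B : Matrix (Fin b) (Fin b) F) :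
    Matrix (Fin n) (Fin n) F :=
  Matrix.reindexAlgEquiv F F (finSumFinEquiv.trans (finCongr h)) (Matrix.fromBlocks A 0 0 B)

theorem blockMat_mul {a b : ℕ} (h : a + b = n) (A A' : Matrix (Fin a) (Fin a) F)
    (B B' : Matrix (Fin b) (Fin b) F) :
    blockMat h A B * blockMat h A' B' = blockMat h (A * A') (B * B') := by
  rw [blockMat, blockMat, ← map_mul, Matrix.fromBlocks_multiply]
  simp [blockMat]

theorem blockMat_one {a b : ℕ} (h : a + b = n) : blockMat h (1 : Matrix (Fin a) (Fin a) F) (1 : Matrix (Fin b) (Fin b) F) = 1 := by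
  rw [blockMat, Matrix.fromBlocks_one, map_one]

theorem blockMat_pow {a b : ℕ} (h : a + b = n) (A : Matrix (Fin a) (Fin a) F)
    (B : Matrix (Fin b) (Fin b) F) (k : ℕ) : blockMat h A B ^ k = blockMat h (A ^ k) (B ^ k) := by
  induction k with
  | zero => simp [blockMat_one]
  | succ k ih => rw [pow_succ, ih, blockMat_mul, pow_succ, pow_succ]

theorem det_blockMat {a b : ℕ} (h : a + b = n) (A : Matrix (Fin a) (Fin a) F)
    (B : Matrix (Fin b) (Fin b) F) : (blockMat h A B).det = A.det * B.det := by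
  rw [blockMat, Matrix.det_reindexAlgEquiv, Matrix.det_fromBlocks_zero₂₁]

theorem not_isScal_blockMat_left {a b : ℕ} (h : a + b = n) (hb : 0 < b) {A : Matrix (Fin a) (Fin a) F}
    (hA : A ≠ 1) : ¬ IsScal (blockMat h A (1 : Matrix (Fin b) (Fin b) F)) := by
  rintro ⟨c, hc⟩
  rw [blockMat, ← map_one (Matrix.reindexAlgEquiv F F (finSumFinEquiv.trans (finCongr h))), ← map_smul] at hc
  have h2 := (Matrix.reindexAlgEquiv F F _).injective hc
  rw [← Matrix.fromBlocks_one, Matrix.fromBlocks_smul, Matrix.fromBlocks_inj] at h2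
  have hc1 : (1 : F) = c := by
    have := congrFun (congrFun h2.2.2.2 ⟨0, hb⟩) ⟨0, hb⟩
    simpa using this
  exact hA (by rw [h2.1, ← hc1, one_smul])

theorem not_isScal_blockMat_right {a b : ℕ} (h : a + b = n) (ha : 0 < a) {B : Matrix (Fin b) (Fin b) F}
    (hB : B ≠ 1) : ¬ IsScal (blockMat h (1 : Matrix (Fin a) (Fin a) F) B) := by
  rintro ⟨c, hc⟩
  rw [blockMat, ← map_one (Matrix.reindexAlgEquiv F F (finSumFinEquiv.trans (finCongr h))), ← map_smul] at hc
  have h2 := (Matrix.reindexAlgEquiv F F _).injective hc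
  rw [← Matrix.fromBlocks_one, Matrix.fromBlocks_smul, Matrix.fromBlocks_inj] at h2
  have hc1 : (1 : F) = c := by
    have := congrFun (congrFun h2.1 ⟨0, ha⟩) ⟨0, ha⟩
    simpa using this
  exact hB (by rw [h2.2.2.2, ← hc1, one_smul])

/-- Commuting block pair gives a product of two primes in the spectrum. -/
theorem mem_of_blocks {a b r s : ℕ} (h : a + b = n) (ha : 0 < a) (hb : 0 < b) (hr : r.Prime) (hs : s.Prime)
    (hrs : r ≠ s) {A : Matrix (Fin a) (Fin a) F} {B : Matrix (Fin b) (Fin b) F}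
    (hA1 : A.det = 1) (hAr : A ^ r = 1) (hA : A ≠ 1) (hB1 : B.det = 1) (hBs : B ^ s = 1) (hB : B ≠ 1) :
    r * s ∈ Set.range (orderOf : Matrix.ProjectiveSpecialLinearGroup (Fin n) F → ℕ) := by
  refine mem_of_pair hr hs hrs ⟨blockMat h A 1, by rw [det_blockMat, hA1, Matrix.det_one, one_mul]⟩
    ⟨blockMat h 1 B, by rw [det_blockMat, hB1, Matrix.det_one, one_mul]⟩ ?_ ⟨1, ?_⟩
    (not_isScal_blockMat_left h hb hA) ⟨1, ?_⟩ (not_isScal_blockMat_right h ha hB)
  · refine Subtype.ext ?_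
    show blockMat h A 1 * blockMat h 1 B = blockMat h 1 B * blockMat h A 1
    simp [blockMat_mul]
  · show blockMat h A 1 ^ r = _
    rw [blockMat_pow, hAr, one_pow, blockMat_one, one_smul]
  · show blockMat h 1 B ^ s = _
    rw [blockMat_pow, hBs, one_pow, blockMat_one, one_smul]

/-- An element of order `r` and determinant one, moving exactly the order of `q` modulo `r` dimensions. -/
theorem exists_moving {r : ℕ} [Fact r.Prime] (hrF : (r : F) ≠ 0) (hr1 : ¬ r ∣ Fintype.card F - 1) {m : ℕ}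
    (hk : 0 < orderOf ((Fintype.card F : ℕ) : ZMod r)) (hm : orderOf ((Fintype.card F : ℕ) : ZMod r) ≤ m) :
    ∃ A : Matrix (Fin m) (Fin m) F, A.det = 1 ∧ A ^ r = 1 ∧ A ≠ 1 := by
  obtain ⟨A, hA1, hAr, hker⟩ := Inv.exists_elt_order (F := F) hrF hr1 (n := m) (s := 1) (by rwa [one_mul])
  refine ⟨A, hA1, hAr, ?_⟩
  rintro rfl
  have h0 : Matrix.toLin' (1 : Matrix (Fin m) (Fin m) F) - 1 = 0 := by
    rw [Matrix.toLin'_one]; exact sub_self _
  rw [h0, LinearMap.ker_zero, finrank_top, Module.finrank_fin_fun] at hker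
  omega

/-- The order of `q` modulo a prime divisor of `|PSL_n(q)|` is at most `n`. -/
theorem order_le_of_dvd {p : ℕ} [Fact p.Prime] [CharP F p] (hn : 2 ≤ n) {r : ℕ} [Fact r.Prime] (hrp : r ≠ p)
    (h : r ∣ Nat.card (Matrix.ProjectiveSpecialLinearGroup (Fin n) F)) :
    orderOf ((Fintype.card F : ℕ) : ZMod r) ≤ n := by
  obtain ⟨m, rfl⟩ : ∃ m, n = m + 1 := ⟨n - 1, by omega⟩
  have h1 : r ∣ Nat.card (Matrix.SpecialLinearGroup (Fin (m + 1)) F) := by
    rw [← LinearGroup.gcd_mul_card_PSL]; exact h.mul_left _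
  rw [LinearGroup.card_SL_eq_pow_mul_prod, Nat.card_eq_fintype_card] at h1
  have hr : r.Prime := Fact.out
  rcases hr.dvd_mul.1 h1 with h2 | h2
  · obtain ⟨e, -, he⟩ := FiniteField.card F p
    rw [he, ← pow_mul] at h2
    exact absurd ((Nat.prime_dvd_prime_iff_eq hr Fact.out).1 (hr.dvd_of_dvd_pow h2)) hrp
  · obtain ⟨i, hi, hi'⟩ := hr.prime.exists_mem_finset_dvd h2
    have h3 := Nat.le_of_dvd (by omega) ((Inv.orderOf_dvd_iff_dvd_pow (F := F) (r := r) (i + 2)).mpr hi')
    have := Finset.mem_range.1 hi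
    omega

/-- The field of degree `l` supplies an element of order `r * s` of determinant one. -/
theorem exists_field_pair {r s : ℕ} [Fact r.Prime] [Fact s.Prime] (hrs : r ≠ s)
    (hr1 : ¬ r ∣ Fintype.card F - 1) (hs1 : ¬ s ∣ Fintype.card F - 1) {l : ℕ} (hl : 1 ≤ l) (hln : l ≤ n)
    (hr : r ∣ Fintype.card F ^ l - 1) (hs : s ∣ Fintype.card F ^ l - 1) :
    r * s ∈ Set.range (orderOf : Matrix.ProjectiveSpecialLinearGroup (Fin n) F → ℕ) := by
  have hrp : r.Prime := Fact.out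
  have hsp : s.Prime := Fact.out
  obtain ⟨g, hg⟩ := KS58.exists_gl_order_card_pow_sub_one (F := F) (n := n) hl hln
  have key : ∀ t : ℕ, t.Prime → t ∣ Fintype.card F ^ l - 1 → ¬ t ∣ Fintype.card F - 1 →
      ∃ X : Matrix.SpecialLinearGroup (Fin n) F, (∃ j, (X : Matrix (Fin n) (Fin n) F) = (g : Matrix (Fin n) (Fin n) F) ^ j) ∧
        (X : Matrix (Fin n) (Fin n) F) ^ t = 1 ∧ ¬ IsScal (X : Matrix (Fin n) (Fin n) F) := by
    intro t ht hd ht1
    haveI := Fact.mk ht
    have ho := orderOf_pow_orderOf_div (orderOf_pos g).ne' (hg ▸ hd)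
    set y := g ^ (orderOf g / t) with hy
    have hy1 : (y : Matrix (Fin n) (Fin n) F) ^ t = 1 := by
      rw [← Units.val_pow_eq_pow_val, ← ho, pow_orderOf_eq_one, Units.val_one]
    have hroot : ∀ c : F, c ^ t = 1 → c = 1 := by
      intro c hc
      have hc0 : c ≠ 0 := fun e => by rw [e, zero_pow ht.ne_zero] at hc; exact zero_ne_one hc
      have h2 := pow_gcd_eq_one.mpr ⟨hc, FiniteField.pow_card_sub_one_eq_one _ hc0⟩
      rwa [(ht.coprime_iff_not_dvd.mpr ht1).gcd_eq_one, pow_one] at h2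
    refine ⟨⟨(y : Matrix (Fin n) (Fin n) F), hroot _ (by rw [← Matrix.det_pow, hy1, Matrix.det_one])⟩,
      ⟨orderOf g / t, Units.val_pow_eq_pow_val g _⟩, hy1, ?_⟩
    rintro ⟨c, hc⟩
    change (y : Matrix (Fin n) (Fin n) F) = c • 1 at hc
    have hc1 : c = 1 := by
      refine hroot c ?_
      rw [hc, smul_pow, one_pow] at hy1
      have := congrFun (congrFun hy1 ⟨0, by omega⟩) ⟨0, by omega⟩
      simpa using this
    rw [hc1, one_smul] at hc
    have : y = 1 := Units.ext hc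
    rw [this, orderOf_one] at ho
    exact ht.ne_one ho.symm
  obtain ⟨X, ⟨i, hi⟩, hX, hX'⟩ := key r hrp hr hr1
  obtain ⟨Y, ⟨j, hj⟩, hY, hY'⟩ := key s hsp hs hs1
  refine mem_of_pair hrp hsp hrs X Y (Subtype.ext ?_) ⟨1, by rw [hX, one_smul]⟩ hX' ⟨1, by rw [hY, one_smul]⟩ hY'
  rw [Matrix.SpecialLinearGroup.coe_mul, Matrix.SpecialLinearGroup.coe_mul, hi, hj, ← pow_add, ← pow_add, add_comm]

/-- The elementary transvection of size two. -/
theorem exists_transvection_block (p : ℕ) [Fact p.Prime] [CharP F p] :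
    ∃ B : Matrix (Fin 2) (Fin 2) F, B.det = 1 ∧ B ^ p = 1 ∧ B ≠ 1 := by
  refine ⟨1 + Matrix.single 0 1 1, ?_, ?_, ?_⟩
  · simp [Matrix.det_fin_two, Matrix.one_apply]
  · rw [add_pow_char_of_commute p (Commute.one_left _), one_pow,
      pow_eq_zero_of_le (Fact.out : p.Prime).two_le (by rw [pow_two, Matrix.single_mul_single_of_ne _ _ _ _ (by decide)]),
      add_zero]
  · intro h
    have := congrFun (congrFun h 0) 1
    simp [Matrix.one_apply] at this

/-- A diagonal element of prime order dividing `q - 1`. -/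
theorem exists_diag {r : ℕ} [Fact r.Prime] (h : r ∣ Fintype.card F - 1) {m : ℕ} (hm : 2 ≤ m) :
    ∃ A : Matrix (Fin m) (Fin m) F, A.det = 1 ∧ A ^ r = 1 ∧ A ≠ 1 := by
  classical
  obtain ⟨z, hz⟩ : ∃ z : Fˣ, orderOf z = r :=
    exists_prime_orderOf_dvd_card r (by rwa [Fintype.card_units])
  obtain ⟨k, rfl⟩ : ∃ k, m = k + 2 := ⟨m - 2, by omega⟩
  let d : Fin (k + 2) → Fˣ := Function.update (Function.update 1 0 z) 1 z⁻¹
  have h01 : (0 : Fin (k + 2)) ≠ 1 := by simp
  refine ⟨Matrix.diagonal fun i => ((d i : Fˣ) : F), ?_, ?_, ?_⟩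
  · rw [Matrix.det_diagonal, ← Units.coe_prod]
    have : ∏ i, d i = 1 := by
      rw [Fin.prod_univ_succ, Fin.prod_univ_succ]
      simp [d, Function.update_apply, Fin.ext_iff]
    rw [this]; rfl
  · rw [Matrix.diagonal_pow, ← Matrix.diagonal_one, Matrix.diagonal_eq_diagonal_iff]
    intro i
    have hz1 : z ^ r = 1 := by rw [← hz]; exact pow_orderOf_eq_one z
    have : d i ^ r = 1 := by
      simp only [d, Function.update_apply]
      split_ifs <;> simp [hz1]
    rw [Pi.pow_apply, ← Units.val_pow_eq_pow_val, this, Units.val_one]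
  · intro e
    rw [← Matrix.diagonal_one, Matrix.diagonal_eq_diagonal_iff] at e
    have := e 0
    simp [d, h01] at this
    have hz0 : z = 1 := Units.ext (by simpa using this)
    rw [hz0, orderOf_one] at hz
    exact (Fact.out : r.Prime).ne_one hz.symm

end Cfsg.Agent.PrimeGraphPSL
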