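import Cfsg.Agent.PrimeGraphPSL.Blocks

/-!
Adjacency in the prime graph of `PSL_n(q)`.
-/

set_option autoImplicit false
set_option linter.unusedSectionVars false

namespace Cfsg.Agent.PrimeGraphPSL

open Cfsg.Agent.ClMax99 Module

universe u

variable {F : Type u} [Field F] [Fintype F] {n : ℕ}

theorem commute_matrix {X Y : Matrix.SpecialLinearGroup (Fin n) F} (h : Commute X Y) :
    Commute (X : Matrix (Fin n) (Fin n) F) (Y : Matrix (Fin n) (Fin n) F) :=
  congrArg Subtype.val h.eq

/-- The endomorphism of a matrix. -/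
abbrev toEnd (A : Matrix (Fin n) (Fin n) F) : Module.End F (Fin n → F) := Matrix.toLinAlgEquiv' A

theorem toEnd_ne_one {A : Matrix (Fin n) (Fin n) F} (h : ¬ IsScal A) : toEnd A ≠ 1 := fun e =>
  h ⟨1, by rw [one_smul]; exact Matrix.toLinAlgEquiv'.injective (e.trans (map_one _).symm)⟩

theorem toEnd_pow {A : Matrix (Fin n) (Fin n) F} {r : ℕ} (h : A ^ r = 1) : toEnd A ^ r = 1 := by
  rw [← map_pow, h, map_one]

/-- Two commuting elements of prime orders in dimension smaller than the sum of the orders of `q`. -/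
theorem dvd_of_commute {r s : ℕ} [Fact r.Prime] [Fact s.Prime] (hrF : (r : F) ≠ 0) (hsF : (s : F) ≠ 0)
    {V : Type u} [AddCommGroup V] [Module F V] [FiniteDimensional F V] {x y : Module.End F V}
    (hx : x ^ r = 1) (hy : y ^ s = 1) (hx1 : x ≠ 1) (hy1 : y ≠ 1) (hc : Commute x y)
    (hkl : orderOf (Fintype.card F : ZMod r) ≤ orderOf (Fintype.card F : ZMod s))
    (hl : 0 < orderOf (Fintype.card F : ZMod s))
    (hlt : finrank F V < orderOf (Fintype.card F : ZMod r) + orderOf (Fintype.card F : ZMod s)) :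
    orderOf (Fintype.card F : ZMod r) ∣ orderOf (Fintype.card F : ZMod s) := by
  have key : ∀ (a b : ℕ) [Fact a.Prime] [Fact b.Prime], (a : F) ≠ 0 → (b : F) ≠ 0 →
      ∀ f g : Module.End F V, f ^ a = 1 → g ^ b = 1 → f ≠ 1 → Commute f g →
      finrank F V < orderOf (Fintype.card F : ZMod a) + orderOf (Fintype.card F : ZMod b) →
      LinearMap.range (g - 1) ≤ LinearMap.range (f - 1) := by
    intro a b _ _ haF hbF f g hf hg hf1 hfg hab
    have hcf : Commute g (f - 1) := (hfg.symm).sub_right (Commute.one_right _)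
    have hfix : (LinearMap.ker (f - 1)).map (g - 1) = ⊥ := by
      by_contra hne
      have h1 := le_finrank_of_moved hbF hg (ker_map_le hcf) hne
      have h2 := le_finrank_of_ne haF hf hf1
      have h3 := Submodule.finrank_map_le (g - 1) (LinearMap.ker (f - 1))
      have h4 := LinearMap.finrank_range_add_finrank_ker (f - 1)
      omega
    have htop : LinearMap.ker (f - 1) ⊔ LinearMap.range (f - 1) = ⊤ := by
      apply Submodule.eq_top_of_finrank_eq
      have := Submodule.finrank_sup_add_finrank_inf_eq (LinearMap.ker (f - 1)) (LinearMap.range (f - 1))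
      rw [(Inv.disjoint_ker_range haF hf).eq_bot, finrank_bot, add_zero] at this
      have h4 := LinearMap.finrank_range_add_finrank_ker (f - 1)
      omega
    rw [← Submodule.map_top, ← htop, Submodule.map_sup, hfix, bot_sup_eq]
    rintro _ ⟨v, hv, rfl⟩
    have := range_map_le hcf ⟨v, hv, rfl⟩
    simpa using Submodule.sub_mem _ this hv
  have heq : LinearMap.range (x - 1) = LinearMap.range (y - 1) :=
    le_antisymm (key s r hsF hrF y x hy hx hy1 hc.symm (by omega)) (key r s hrF hsF x y hx hy hx1 hc hlt)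
  have h1 := Inv.dvd_finrank_moved hrF hx (W := (⊤ : Submodule F V)) le_top
  have h2 := Inv.dvd_finrank_moved hsF hy (W := (⊤ : Submodule F V)) le_top
  rw [Submodule.map_top] at h1 h2
  rw [← heq] at h2
  obtain ⟨c, hcl⟩ := h2
  have hle := Submodule.finrank_le (LinearMap.range (x - 1))
  have hpos := le_finrank_of_ne hsF hy hy1
  rw [← heq] at hpos
  rcases Nat.lt_or_ge c 2 with h | h
  · have : c = 1 := by
      rcases Nat.eq_zero_or_pos c with rfl | hc0
      · omega
      · omega
    subst this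
    rw [mul_one] at hcl
    rwa [hcl] at h1
  · have := Nat.mul_le_mul_left (orderOf (Fintype.card F : ZMod s)) h
    omega

theorem not_dvd_of_two_le {r : ℕ} [Fact r.Prime] (h : 2 ≤ orderOf (Fintype.card F : ZMod r)) :
    ¬ r ∣ Fintype.card F - 1 := fun e => by
  rw [Inv.orderOf_eq_one_iff_dvd.mpr e] at h
  omega

/-- Adjacency of two primes other than the characteristic. -/
theorem mem_iff_prod {p : ℕ} [Fact p.Prime] [CharP F p] (hn : 2 ≤ n) {r s : ℕ} [Fact r.Prime] [Fact s.Prime]
    (hrp : r ≠ p) (hsp : s ≠ p) (hrs : r ≠ s)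
    (hsG : s ∣ Nat.card (Matrix.ProjectiveSpecialLinearGroup (Fin n) F))
    (h2k : 2 ≤ orderOf (Fintype.card F : ZMod r))
    (hkl : orderOf (Fintype.card F : ZMod r) ≤ orderOf (Fintype.card F : ZMod s)) :
    r * s ∈ Set.range (orderOf : Matrix.ProjectiveSpecialLinearGroup (Fin n) F → ℕ) ↔
      (orderOf (Fintype.card F : ZMod r) + orderOf (Fintype.card F : ZMod s) ≤ n ∨
        orderOf (Fintype.card F : ZMod r) ∣ orderOf (Fintype.card F : ZMod s)) := by
  have hr1 := not_dvd_of_two_le (F := F) h2k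
  have hs1 := not_dvd_of_two_le (F := F) (r := s) (h2k.trans hkl)
  have hrF := Inv.cast_ne_zero_of_ne (F := F) hrp
  have hsF := Inv.cast_ne_zero_of_ne (F := F) hsp
  have hln := order_le_of_dvd hn hsp hsG
  constructor
  · intro h
    obtain ⟨X, Y, hc, hX, hX', hY, hY'⟩ := exists_pair_of_mem Fact.out Fact.out h
    obtain ⟨v, A, hv, hXA, hA, -⟩ := exists_normalised hr1 (by omega) X hX
    obtain ⟨w, B, hw, hYB, hB, -⟩ := exists_normalised hs1 (by omega) Y hY
    rw [or_iff_not_imp_left, not_le]
    intro hlt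
    have hcm := commute_matrix hc
    rw [hXA, hYB] at hcm
    refine dvd_of_commute hrF hsF (toEnd_pow hA) (toEnd_pow hB)
      (toEnd_ne_one (not_isScal_smul hv (hXA ▸ hX'))) (toEnd_ne_one (not_isScal_smul hw (hYB ▸ hY')))
      ((commute_of_smul hv hw hcm).map _) hkl (by omega) ?_
    rw [Module.finrank_fin_fun]
    exact hlt
  · intro h
    rcases Nat.lt_or_ge n (orderOf (Fintype.card F : ZMod r) + orderOf (Fintype.card F : ZMod s)) with hlt | hge
    · refine exists_field_pair hrs hr1 hs1 (l := orderOf (Fintype.card F : ZMod s)) (by omega) hln ?_ ?_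
      · exact (Inv.orderOf_dvd_iff_dvd_pow _).mp (h.resolve_left (by omega))
      · exact (Inv.orderOf_dvd_iff_dvd_pow _).mp dvd_rfl
    · obtain ⟨A, hA1, hA, hA'⟩ := exists_moving hrF hr1 (by omega)
        (le_refl (orderOf (Fintype.card F : ZMod r)))
      obtain ⟨B, hB1, hB, hB'⟩ := exists_moving hsF hs1 (by omega)
        (show orderOf (Fintype.card F : ZMod s) ≤ n - orderOf (Fintype.card F : ZMod r) by omega)
      exact mem_of_blocks (by omega) (by omega) (by omega) Fact.out Fact.out hrs hA1 hA hA' hB1 hB hB'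

/-- A rank one perturbation of the identity of determinant one fixes its moved vector. -/
theorem eq_zero_of_rank_one (A : Matrix (Fin n) (Fin n) F) (hA : A.det = 1)
    (h : finrank F ↥(LinearMap.range (toEnd A - 1)) ≤ 1) (hd : Disjoint (LinearMap.ker (toEnd A - 1))
      (LinearMap.range (toEnd A - 1))) : toEnd A = 1 := by
  obtain ⟨⟨x, hx⟩, hspan⟩ := finrank_le_one_iff.1 h
  have hc : ∀ v, ∃ c : F, (toEnd A - 1) v = c • x := fun v => by
    obtain ⟨c, hc⟩ := hspan ⟨_, ⟨v, rfl⟩⟩
    exact ⟨c, (congrArg Subtype.val hc).symm⟩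
  choose c hc using hc
  let φ : Fin n → F := fun j => c (Pi.single j 1)
  have hAeq : A = 1 + Matrix.replicateCol Unit x * Matrix.replicateRow Unit φ := by
    ext i j
    have h1 := congrFun (hc (Pi.single j 1)) i
    simp only [toEnd, LinearMap.sub_apply, Matrix.toLinAlgEquiv'_apply, Matrix.mulVec_single_one,
      Module.End.one_apply, Pi.sub_apply, Pi.smul_apply, smul_eq_mul, Matrix.col_apply] at h1
    simp only [Matrix.add_apply, Matrix.mul_apply, Matrix.replicateCol_apply, Matrix.replicateRow_apply,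
      Finset.univ_unique, Finset.sum_singleton, φ, Matrix.one_apply]
    rw [Pi.single_apply] at h1
    linear_combination h1
  have hd1 : φ ⬝ᵥ x = 0 := by
    rw [hAeq, Matrix.det_one_add_replicateCol_mul_replicateRow] at hA
    linear_combination hA
  have hker : (toEnd A - 1) x = 0 := by
    show Matrix.toLinAlgEquiv' A x - x = 0
    rw [Matrix.toLinAlgEquiv'_apply, hAeq, Matrix.add_mulVec, Matrix.one_mulVec, add_sub_cancel_left,
      ← Matrix.mulVec_mulVec]
    ext i
    simp [Matrix.mulVec, dotProduct] at hd1 ⊢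
    simp [hd1]
  have hx0 : x = 0 := Submodule.disjoint_def.1 hd x hker hx
  refine sub_eq_zero.1 (LinearMap.ext fun v => ?_)
  rw [hc v, hx0, smul_zero]; rfl

theorem not_mem_char_small {p : ℕ} [Fact p.Prime] [CharP F p] (hn : 2 ≤ n) {r : ℕ} [Fact r.Prime] (hrp : r ≠ p)
    (h : n < orderOf (Fintype.card F : ZMod r) + 2 ∨
      (n = 3 ∧ r = 3 ∧ 3 ∣ Fintype.card F - 1 ∧ ¬ 9 ∣ Fintype.card F - 1)) :
    r * p ∉ Set.range (orderOf : Matrix.ProjectiveSpecialLinearGroup (Fin n) F → ℕ) := by
  intro hmem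
  have hrF := Inv.cast_ne_zero_of_ne (F := F) hrp
  have hk := Inv.orderOf_pos_of_ne (F := F) hrp
  obtain ⟨X, Y, hc, hX, hX', hY, hY'⟩ := exists_pair_of_mem Fact.out Fact.out hmem
  haveI : Nonempty (Fin n) := ⟨⟨0, by omega⟩⟩
  obtain ⟨w, B, hw, hYB, hB, -⟩ := exists_normalised (not_dvd_card_sub_one_char p) (by omega) Y hY
  have hB' : ¬ IsScal B := not_isScal_smul hw (hYB ▸ hY')
  have hcX : Commute (X : Matrix (Fin n) (Fin n) F) B := by
    have hcm := commute_matrix hc
    rw [hYB, ← one_smul F (X : Matrix (Fin n) (Fin n) F)] at hcm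
    exact commute_of_smul one_ne_zero hw hcm
  have hN : (toEnd (B - 1)) ^ p = 0 := by
    rw [← map_pow, sub_pow_char_of_commute p (Commute.one_right B), hB, one_pow, sub_self, map_zero]
  have hN0 : toEnd (B - 1) ≠ 0 := fun e => hB' ⟨1, by
    rw [one_smul]; exact sub_eq_zero.1 (Matrix.toLinAlgEquiv'.injective (e.trans (map_zero _).symm))⟩
  obtain ⟨j, hM, hM2⟩ := exists_sq_zero _ hN0 hN
  set M : Module.End F (Fin n → F) := toEnd (B - 1) ^ j with hMdef
  have hR : LinearMap.range M ≤ LinearMap.ker M := by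
    rintro _ ⟨v, rfl⟩
    exact LinearMap.congr_fun hM2 v
  have hdim : 2 * finrank F ↥(LinearMap.range M) ≤ n := by
    have h1 := LinearMap.finrank_range_add_finrank_ker M
    have h2 := Submodule.finrank_mono hR
    rw [Module.finrank_fin_fun] at h1
    omega
  have hpos : 0 < finrank F ↥(LinearMap.range M) :=
    Nat.pos_of_ne_zero fun e => hM (LinearMap.range_eq_bot.1 (Submodule.finrank_eq_zero.1 e))
  have hcM : ∀ A : Matrix (Fin n) (Fin n) F, Commute A B → Commute (toEnd A) M := fun A hA =>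
    ((hA.sub_right (Commute.one_right A)).map _).pow_right j
  rcases Nat.lt_or_ge (orderOf (Fintype.card F : ZMod r)) 2 with hk1 | hk2
  · have hn3 : n ≤ 3 := by omega
    have hd1 : finrank F ↥(LinearMap.range M) = 1 := by omega
    obtain ⟨c, hXr⟩ := hX
    have hc0 : c ≠ 0 := Inv.scalar_ne_zero (by omega) X.2 hXr
    obtain ⟨⟨x, hxR⟩, hx0, hspan⟩ := finrank_eq_one_iff'.1 hd1
    have hx0' : x ≠ 0 := fun e => hx0 (Subtype.ext e)
    obtain ⟨a, ha⟩ := hspan ⟨_, range_map_le (hcM _ hcX) ⟨x, hxR, rfl⟩⟩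
    have ha' : toEnd (X : Matrix (Fin n) (Fin n) F) x = a • x := (congrArg Subtype.val ha).symm
    have har : a ^ r = c := by
      have hp : ∀ k : ℕ, (toEnd (X : Matrix (Fin n) (Fin n) F) ^ k) x = a ^ k • x := by
        intro k
        induction k with
        | zero => simp
        | succ k ih => rw [pow_succ', Module.End.mul_apply, ih, map_smul, ha', smul_smul, pow_succ]
      have h1 := hp r
      rw [← map_pow, hXr, map_smul, map_one, LinearMap.smul_apply, Module.End.one_apply] at h1
      exact (smul_left_injective F hx0' h1).symm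
    have ha0 : a ≠ 0 := fun e => hc0 (by rw [← har, e, zero_pow (Fact.out : r.Prime).ne_zero])
    set A := a⁻¹ • (X : Matrix (Fin n) (Fin n) F) with hA
    have hAr : A ^ r = 1 := by
      rw [hA, smul_pow, hXr, smul_smul, ← har, ← mul_pow, inv_mul_cancel₀ ha0, one_pow, one_smul]
    have hA1 : toEnd A ≠ 1 := toEnd_ne_one fun ⟨d, hd⟩ => hX' ⟨a * d, by
      rw [← smul_smul, ← hd, hA, smul_smul, mul_inv_cancel₀ ha0, one_smul]⟩
    have hfix : (toEnd A - 1) * M = 0 := by
      refine LinearMap.ext fun v => ?_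
      obtain ⟨e, he⟩ := hspan ⟨_, ⟨v, rfl⟩⟩
      have he' : M v = e • x := (congrArg Subtype.val he).symm
      rw [Module.End.mul_apply, he', map_smul]
      simp [hA, toEnd, ← Matrix.toLinAlgEquiv'_apply, ha', inv_smul_smul₀ ha0]
    have h2 := finrank_range_add_two_le hrF (toEnd_pow hAr) M hM hM2
      (hcM A (hcX.smul_left _)) hfix
    have h3 := le_finrank_of_ne hrF (toEnd_pow hAr) hA1
    rw [Module.finrank_fin_fun] at h2
    rcases h with h | ⟨rfl, rfl, h3d, h9⟩
    · omega
    · refine hA1 (eq_zero_of_rank_one A ?_ (by omega) (Inv.disjoint_ker_range hrF (toEnd_pow hAr)))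
      rw [hA, Matrix.det_smul, Fintype.card_fin, X.2, mul_one]
      have hdet : c ^ 3 = 1 := by
        have := congrArg Matrix.det hXr
        rw [Matrix.det_pow, X.2, one_pow, Matrix.det_smul, Matrix.det_one, mul_one, Fintype.card_fin] at this
        exact this.symm
      have h9' : a ^ 9 = 1 := by rw [show (9 : ℕ) = 3 * 3 from rfl, pow_mul, har, hdet]
      have hg := pow_gcd_eq_one.mpr ⟨h9', FiniteField.pow_card_sub_one_eq_one _ ha0⟩
      have hg3 : Nat.gcd 9 (Fintype.card F - 1) ∣ 3 := by
        obtain ⟨i, hi, hi'⟩ := (Nat.dvd_prime_pow Nat.prime_three (m := 2)).1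
          (show Nat.gcd 9 (Fintype.card F - 1) ∣ 3 ^ 2 from Nat.gcd_dvd_left _ _)
        interval_cases i
        · rw [hi']; simp
        · rw [hi']; simp
        · have h9d := Nat.gcd_dvd_right 9 (Fintype.card F - 1)
          rw [hi'] at h9d
          exact absurd h9d h9
      obtain ⟨d, hd⟩ := hg3
      rw [inv_pow, hd, pow_mul, hg, one_pow, inv_one]
  · have hk1 := not_dvd_of_two_le (F := F) hk2
    obtain ⟨v, A, hv, hXA, hA, -⟩ := exists_normalised hk1 (by omega) X hX
    have hcA : Commute A B := by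
      rw [hXA, ← one_smul F B] at hcX
      exact commute_of_smul hv one_ne_zero hcX
    have hA1 : toEnd A ≠ 1 := toEnd_ne_one (not_isScal_smul hv (hXA ▸ hX'))
    have hlt : n < orderOf (Fintype.card F : ZMod r) + 2 := by
      rcases h with h | ⟨-, rfl, h3d, -⟩
      · exact h
      · exact absurd h3d hk1
    by_cases hfix : (toEnd A - 1) * M = 0
    · have h2 := finrank_range_add_two_le hrF (toEnd_pow hA) M hM hM2 (hcM A hcA) hfix
      have h3 := le_finrank_of_ne hrF (toEnd_pow hA) hA1
      rw [Module.finrank_fin_fun] at h2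
      omega
    · have hne : (LinearMap.range M).map (toEnd A - 1) ≠ ⊥ := by
        rw [← LinearMap.range_comp]
        exact fun e => hfix (LinearMap.range_eq_bot.1 e)
      have h1 := le_finrank_of_moved hrF (toEnd_pow hA) (range_map_le (hcM A hcA)) hne
      have h2 := Submodule.finrank_map_le (toEnd A - 1) (LinearMap.range M)
      omega

theorem mem_char_large {p : ℕ} [Fact p.Prime] [CharP F p] (hn : 2 ≤ n) {r : ℕ} [Fact r.Prime] (hrp : r ≠ p)
    (h : orderOf (Fintype.card F : ZMod r) + 2 ≤ n)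
    (hex : ¬ (n = 3 ∧ r = 3 ∧ 3 ∣ Fintype.card F - 1 ∧ ¬ 9 ∣ Fintype.card F - 1)) :
    r * p ∈ Set.range (orderOf : Matrix.ProjectiveSpecialLinearGroup (Fin n) F → ℕ) := by
  have hrF := Inv.cast_ne_zero_of_ne (F := F) hrp
  have hk := Inv.orderOf_pos_of_ne (F := F) hrp
  obtain ⟨B, hB1, hB, hB'⟩ := exists_transvection_block (F := F) p
  rcases Nat.lt_or_ge (orderOf (Fintype.card F : ZMod r)) 2 with hk1 | hk2
  · have hdvd : r ∣ Fintype.card F - 1 := Inv.orderOf_eq_one_iff_dvd.1 (by omega)
    rcases Nat.lt_or_ge n 4 with hn3 | hn4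
    · obtain rfl : n = 3 := by omega
      obtain ⟨a, ha0, har, ha3⟩ : ∃ a : F, a ≠ 0 ∧ (a ^ 3) ^ r = 1 ∧ a ^ 3 ≠ 1 := by
        have hex' : ∀ t : ℕ, t ∣ Fintype.card F - 1 → ∃ z : Fˣ, orderOf z = t := by
          intro t ht
          obtain ⟨z, hz⟩ := IsCyclic.exists_generator (α := Fˣ)
          have hzo := orderOf_eq_card_of_forall_mem_zpowers hz
          rw [Nat.card_units, Nat.card_eq_fintype_card] at hzo
          exact ⟨z ^ (orderOf z / t), orderOf_pow_orderOf_div (orderOf_pos z).ne' (hzo ▸ ht)⟩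
        by_cases hr3 : r = 3
        · subst hr3
          obtain ⟨z, hz⟩ := hex' 9 (not_not.1 fun h9 => hex ⟨rfl, rfl, hdvd, h9⟩)
          refine ⟨z, z.ne_zero, ?_, ?_⟩
          · rw [← pow_mul, ← Units.val_pow_eq_pow_val, show 3 * 3 = 9 from rfl, ← hz, pow_orderOf_eq_one,
              Units.val_one]
          · rw [← Units.val_pow_eq_pow_val, Ne, Units.val_eq_one, ← orderOf_dvd_iff_pow_eq_one, hz]
            decide
        · obtain ⟨z, hz⟩ := hex' r hdvd
          refine ⟨z, z.ne_zero, ?_, ?_⟩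
          · rw [← pow_mul, mul_comm, pow_mul, ← Units.val_pow_eq_pow_val, ← hz, pow_orderOf_eq_one,
              Units.val_one, one_pow]
          · rw [← Units.val_pow_eq_pow_val, Ne, Units.val_eq_one, ← orderOf_dvd_iff_pow_eq_one, hz]
            exact fun e => hr3 ((Nat.prime_dvd_prime_iff_eq Fact.out Nat.prime_three).1 e)
      let A : Matrix (Fin 2) (Fin 2) F := a • 1
      let C : Matrix (Fin 1) (Fin 1) F := (a ^ 2)⁻¹ • 1
      refine mem_of_pair Fact.out Fact.out hrp
        ⟨blockMat rfl A C, by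
          rw [det_blockMat, Matrix.det_smul, Matrix.det_smul, Matrix.det_one, Matrix.det_one]
          simp only [Fintype.card_fin, mul_one, pow_one]
          field_simp⟩
        ⟨blockMat rfl B 1, by rw [det_blockMat, hB1, Matrix.det_one, mul_one]⟩ ?_ ⟨a ^ r, ?_⟩ ?_ ⟨1, ?_⟩
        (not_isScal_blockMat_left rfl one_pos hB')
      · refine Subtype.ext ?_
        show blockMat rfl A C * blockMat rfl B 1 = blockMat rfl B 1 * blockMat rfl A C
        simp [blockMat_mul, A, C]
      · show blockMat rfl A C ^ r = _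
        have hCr : C ^ r = (a ^ r) • 1 := by
          simp only [C, smul_pow, one_pow]
          congr 1
          rw [inv_pow]
          exact inv_eq_of_mul_eq_one_right (by rw [← mul_pow, ← pow_succ, har])
        rw [blockMat_pow, hCr, smul_pow, one_pow, blockMat, ← map_one (Matrix.reindexAlgEquiv F F
          (finSumFinEquiv.trans (finCongr (rfl : 2 + 1 = 3)))), ← map_smul, ← Matrix.fromBlocks_one,
          Matrix.fromBlocks_smul, smul_zero, smul_zero]
      · rintro ⟨d, hd⟩
        change blockMat rfl A C = d • 1 at hd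
        rw [blockMat, ← map_one (Matrix.reindexAlgEquiv F F
          (finSumFinEquiv.trans (finCongr (rfl : 2 + 1 = 3)))), ← map_smul] at hd
        have h2 := (Matrix.reindexAlgEquiv F F _).injective hd
        rw [← Matrix.fromBlocks_one, Matrix.fromBlocks_smul, Matrix.fromBlocks_inj] at h2
        have e1 : a = d := by simpa [A] using congrFun (congrFun h2.1 0) 0
        have e2 : (a ^ 2)⁻¹ = d := by simpa [C] using congrFun (congrFun h2.2.2.2 0) 0
        refine ha3 ?_
        rw [pow_succ]
        nth_rewrite 2 [e1.trans e2.symm]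
        exact mul_inv_cancel₀ (pow_ne_zero _ ha0)
      · show blockMat rfl B 1 ^ p = _
        rw [blockMat_pow, hB, one_pow, blockMat_one, one_smul]
    · obtain ⟨A, hA1, hA, hA'⟩ := exists_diag hdvd (show 2 ≤ n - 2 by omega)
      exact mem_of_blocks (by omega) (by omega) (by omega) Fact.out Fact.out hrp hA1 hA hA' hB1 hB hB'
  · obtain ⟨A, hA1, hA, hA'⟩ := exists_moving hrF (not_dvd_of_two_le hk2) hk
      (show orderOf (Fintype.card F : ZMod r) ≤ n - 2 by omega)
    exact mem_of_blocks (by omega) (by omega) (by omega) Fact.out Fact.out hrp hA1 hA hA' hB1 hB hB'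

end Cfsg.Agent.PrimeGraphPSL
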