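import Cfsg.Agent.PrimeGraphPSL.Blocks
import Cfsg.Agent.KnownSimple58.LinearSpectrum

/-!
The spectrum of `PSL_3(q)`.
-/

set_option autoImplicit false
set_option linter.unusedSectionVars false

namespace Cfsg.Agent.PrimeGraphPSL

open Polynomial

universe u

variable {F : Type u} [Field F] [Fintype F]

/-- `gcd(3, q - 1)` -/
abbrev dThree (F : Type u) [Fintype F] : ℕ := Nat.gcd 3 (Fintype.card F - 1)

theorem dThree_cases (F : Type u) [Fintype F] : dThree F = 1 ∨ dThree F = 3 :=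
  (Nat.dvd_prime Nat.prime_three).1 (Nat.gcd_dvd_left _ _)

theorem div_mul_dThree : (Fintype.card F - 1) / dThree F * dThree F = Fintype.card F - 1 :=
  Nat.div_mul_cancel (Nat.gcd_dvd_right _ _)

theorem pow_div_pow_three {a : F} (ha : a ≠ 0) :
    (a ^ ((Fintype.card F - 1) / dThree F)) ^ 3 = 1 := by
  obtain ⟨k, hk⟩ : dThree F ∣ 3 := Nat.gcd_dvd_left _ _
  rw [← pow_mul, hk, ← mul_assoc, div_mul_dThree, pow_mul, FiniteField.pow_card_sub_one_eq_one a ha, one_pow]

theorem dvd_card_add_two : dThree F ∣ Fintype.card F + 2 := by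
  have h := Nat.gcd_dvd_right 3 (Fintype.card F - 1)
  have h3 := Nat.gcd_dvd_left 3 (Fintype.card F - 1)
  have hq : 0 < Fintype.card F := Fintype.card_pos
  rw [show Fintype.card F + 2 = (Fintype.card F - 1) + 3 by omega]
  exact Nat.dvd_add h h3

theorem orderOf_dvd_of_aeval (g : Matrix.SpecialLinearGroup (Fin 3) F) {N : ℕ} {μ : F}
    (h : (g : Matrix (Fin 3) (Fin 3) F).charpoly ∣ X ^ N - C μ) :
    orderOf (QuotientGroup.mk g : Matrix.ProjectiveSpecialLinearGroup (Fin 3) F) ∣ N := by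
  refine orderOf_dvd_of_pow_eq_one ?_
  rw [← QuotientGroup.mk_pow, mk_eq_one_iff, Matrix.SpecialLinearGroup.coe_pow]
  have h0 : aeval (g : Matrix (Fin 3) (Fin 3) F) (X ^ N - C μ) = 0 := by
    obtain ⟨c, hc⟩ := h
    rw [hc, map_mul, Matrix.aeval_self_charpoly, zero_mul]
  rw [map_sub, map_pow, aeval_X, aeval_C, sub_eq_zero] at h0
  exact ⟨μ, by rw [h0, Algebra.algebraMap_eq_smul_one]⟩

/-- Element orders of `PSL_3(q)`. -/
theorem orderOf_cases (p : ℕ) [Fact p.Prime] [CharP F p] (g : Matrix.SpecialLinearGroup (Fin 3) F) :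
    let m := orderOf (QuotientGroup.mk g : Matrix.ProjectiveSpecialLinearGroup (Fin 3) F)
    m ∣ (Fintype.card F ^ 2 + Fintype.card F + 1) / Nat.gcd 3 (Fintype.card F - 1) ∨
      m ∣ (Fintype.card F ^ 2 - 1) / Nat.gcd 3 (Fintype.card F - 1) ∨ m ∣ Fintype.card F - 1 ∨
      m ∣ p * (Fintype.card F - 1) / Nat.gcd 3 (Fintype.card F - 1) ∨ (p = 2 ∧ m ∣ 4) := by
  intro m
  set q := Fintype.card F with hq
  set f := (g : Matrix (Fin 3) (Fin 3) F).charpoly with hf
  have hfm : f.Monic := Matrix.charpoly_monic _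
  have hfd : f.natDegree = 3 := by rw [hf, Matrix.charpoly_natDegree_eq_dim, Fintype.card_fin]
  have hf0 : f.coeff 0 = -1 := by
    have h := Matrix.det_eq_sign_charpoly_coeff (g : Matrix (Fin 3) (Fin 3) F)
    rw [g.2, Fintype.card_fin, ← hf] at h
    linear_combination h
  set e := (q - 1) / dThree F with he
  have hdq := Nat.gcd_dvd_right 3 (q - 1)
  by_cases hirr : Irreducible f
  · left
    refine orderOf_dvd_of_pow_eq_one ?_
    rw [← QuotientGroup.mk_pow, QuotientGroup.eq_one_iff]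
    have h := KS58.pow_mem_center_of_irreducible g hirr (by norm_num) (Matrix.aeval_self_charpoly _)
    convert h using 3
    simp only [KS58.mN, Finset.sum_range_succ, Finset.sum_range_zero]
    ring
  obtain ⟨a, ha⟩ : ∃ a, f.IsRoot a := by
    by_contra hno
    push Not at hno
    refine hirr ((hfm.irreducible_iff_roots_eq_zero_of_degree_le_three (by omega) (by omega)).2 ?_)
    exact Multiset.eq_zero_of_forall_notMem fun a ha => hno a (isRoot_of_mem_roots ha)
  obtain ⟨h, hh⟩ := dvd_iff_isRoot.2 ha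
  have hhm : h.Monic := (monic_X_sub_C a).of_mul_monic_left (hh ▸ hfm)
  have hhd : h.natDegree = 2 := by
    have := congrArg natDegree hh
    rw [natDegree_mul (X_sub_C_ne_zero a) hhm.ne_zero, natDegree_X_sub_C, hfd] at this
    omega
  have hah : a * h.coeff 0 = 1 := by
    rw [hh, mul_coeff_zero, coeff_sub, coeff_X_zero, coeff_C_zero, zero_sub] at hf0
    linear_combination -hf0
  have ha0 : a ≠ 0 := left_ne_zero_of_mul_eq_one hah
  by_cases hirr2 : Irreducible h
  · right; left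
    haveI := Fact.mk hirr2
    haveI : Module.Finite F (AdjoinRoot h) := (AdjoinRoot.powerBasis hhm.ne_zero).finite
    haveI : Finite (AdjoinRoot h) := Module.finite_of_finite F
    have hq1 : 1 < q := Fintype.one_lt_card
    have hexp : (Nat.card (AdjoinRoot h) - 1) / (Nat.card F - 1) = q + 1 := by
      rw [Module.natCard_eq_pow_finrank (K := F) (V := AdjoinRoot h), (AdjoinRoot.powerBasis hhm.ne_zero).finrank,
        AdjoinRoot.powerBasis_dim, hhd, Nat.card_eq_fintype_card, ← hq, show q ^ 2 - 1 = (q + 1) * (q - 1) by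
          rw [← Nat.sq_sub_sq, one_pow]]
      exact Nat.mul_div_cancel _ (by omega)
    have hroot : AdjoinRoot.root h ^ (q + 1) = algebraMap F (AdjoinRoot h) a⁻¹ := by
      rw [← hexp, ← FiniteField.algebraMap_norm_eq_pow (K := F)]
      congr 1
      have h2 := Algebra.PowerBasis.norm_gen_eq_coeff_zero_minpoly (AdjoinRoot.powerBasis hhm.ne_zero)
      rw [AdjoinRoot.minpoly_powerBasis_gen_of_monic hhm, AdjoinRoot.powerBasis_gen, AdjoinRoot.powerBasis_dim, hhd] at h2
      rw [h2]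
      simp
      exact eq_inv_of_mul_eq_one_right hah
    have hN : (q ^ 2 - 1) / dThree F = (q + 1) * e := by
      rw [he, ← Nat.mul_div_assoc _ hdq, ← Nat.sq_sub_sq, one_pow]
    show m ∣ (q ^ 2 - 1) / dThree F
    rw [hN]
    refine orderOf_dvd_of_aeval g (μ := (a ^ e)⁻¹) ?_
    rw [← hf, hh]
    refine IsCoprime.mul_dvd ?_ ?_ ?_
    · refine (irreducible_X_sub_C a).coprime_iff_not_dvd.2 fun hd => ?_
      have h1 := natDegree_eq_of_degree_eq
        (degree_eq_degree_of_associated ((irreducible_X_sub_C a).associated_of_dvd hirr2 hd))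
      rw [natDegree_X_sub_C, hhd] at h1
      omega
    · rw [dvd_iff_isRoot, IsRoot.def, eval_sub, eval_pow, eval_X, eval_C, sub_eq_zero]
      refine eq_inv_of_mul_eq_one_right ?_
      have h3 : (a ^ e) ^ dThree F = 1 := by
        rw [← pow_mul, he, div_mul_dThree, FiniteField.pow_card_sub_one_eq_one a ha0]
      obtain ⟨c, hc⟩ := dvd_card_add_two (F := F)
      rw [mul_comm (q + 1), pow_mul, ← pow_succ', show q + 1 + 1 = q + 2 from rfl, hq, hc, pow_mul, h3, one_pow]
    · rw [← AdjoinRoot.mk_eq_zero, map_sub, map_pow, AdjoinRoot.mk_X, AdjoinRoot.mk_C, pow_mul, hroot,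
        ← map_pow, inv_pow, AdjoinRoot.algebraMap_eq, sub_self]
  obtain ⟨b, hb⟩ : ∃ b, h.IsRoot b := by
    by_contra hno
    push Not at hno
    refine hirr2 ((hhm.irreducible_iff_roots_eq_zero_of_degree_le_three (by omega) (by omega)).2 ?_)
    exact Multiset.eq_zero_of_forall_notMem fun a ha => hno a (isRoot_of_mem_roots ha)
  obtain ⟨k, hk⟩ := dvd_iff_isRoot.2 hb
  have hkm : k.Monic := (monic_X_sub_C b).of_mul_monic_left (hk ▸ hhm)
  have hkd : k.natDegree = 1 := by
    have := congrArg natDegree hk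
    rw [natDegree_mul (X_sub_C_ne_zero b) hkm.ne_zero, natDegree_X_sub_C, hhd] at this
    omega
  obtain ⟨c, rfl⟩ : ∃ c, k = X - C c := ⟨-k.coeff 0, by
    conv_lhs => rw [hkm.eq_X_add_C hkd]
    rw [map_neg, sub_neg_eq_add]⟩
  have habc : a * b * c = 1 := by
    rw [hk, mul_coeff_zero, coeff_sub, coeff_X_zero, coeff_C_zero, coeff_sub, coeff_X_zero, coeff_C_zero,
      zero_sub, zero_sub] at hah
    linear_combination hah
  obtain ⟨hb0, hc0⟩ : b ≠ 0 ∧ c ≠ 0 :=
    ⟨fun e => by simp [e] at habc, fun e => by simp [e] at habc⟩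
  have hN4 : p * (q - 1) / Nat.gcd 3 (q - 1) = p * e := Nat.mul_div_assoc p hdq
  have double : ∀ x y : F, x * x * y = 1 → x ≠ y → f = (X - C x) * ((X - C x) * (X - C y)) → m ∣ p * e := by
    intro x y hxy hne hfe
    have hx0 : x ≠ 0 := fun e => by simp [e] at hxy
    refine orderOf_dvd_of_aeval g (μ := (x ^ e) ^ p) ?_
    have key : (X - C x) * (X - C y) ∣ X ^ e - C (x ^ e) := by
      refine IsCoprime.mul_dvd (isCoprime_X_sub_C_of_isUnit_sub (sub_ne_zero.2 hne).isUnit) ?_ ?_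
      · rw [dvd_iff_isRoot]; simp
      · rw [dvd_iff_isRoot, IsRoot.def, eval_sub, eval_pow, eval_X, eval_C, sub_eq_zero]
        have h3 := pow_div_pow_three (F := F) hx0
        have h4 : (x * x * y) ^ e = 1 := by rw [hxy, one_pow]
        rw [mul_pow, mul_pow] at h4
        have hxe : x ^ e ≠ 0 := pow_ne_zero _ hx0
        refine mul_left_cancel₀ (mul_ne_zero hxe hxe) ?_
        rw [h4, ← h3, ← he]
        ring
    rw [mul_comm p e, pow_mul, map_pow, ← sub_pow_char, ← hf, hfe]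
    calc (X - C x) * ((X - C x) * (X - C y)) ∣ ((X - C x) * (X - C y)) ^ 2 := Dvd.intro (X - C y) (by ring)
      _ ∣ _ := (pow_dvd_pow_of_dvd key 2).trans (pow_dvd_pow _ (Fact.out : p.Prime).two_le)
  have hfabc : f = (X - C a) * ((X - C b) * (X - C c)) := by rw [hh, hk]
  by_cases hab : a = b
  · subst hab
    by_cases hac : a = c
    · subst hac
      rcases eq_or_ne p 2 with hp2 | hp2
      · subst hp2
        refine Or.inr (Or.inr (Or.inr (Or.inr ⟨rfl, orderOf_dvd_of_aeval g (μ := a ^ 4) ?_⟩)))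
        rw [← hf, hfabc, map_pow, show (4 : ℕ) = 2 ^ 2 from rfl, ← sub_pow_char_pow]
        exact ⟨X - C a, by ring⟩
      · refine Or.inr (Or.inr (Or.inr (Or.inl ?_)))
        rw [hN4]
        refine (orderOf_dvd_of_aeval g (μ := a ^ p) ?_).trans (dvd_mul_right p e)
        rw [← hf, hfabc, map_pow, ← sub_pow_char]
        have : 3 ≤ p := by have := (Fact.out : p.Prime).two_le; omega
        exact (show (X - C a) * ((X - C a) * (X - C a)) = (X - C a) ^ 3 by ring) ▸ pow_dvd_pow _ this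
    · refine Or.inr (Or.inr (Or.inr (Or.inl ?_)))
      rw [hN4]
      exact double a c habc hac hfabc
  by_cases hac : a = c
  · subst hac
    refine Or.inr (Or.inr (Or.inr (Or.inl ?_)))
    rw [hN4]
    exact double a b (by linear_combination habc) hab (by rw [hfabc]; ring)
  by_cases hbc : b = c
  · subst hbc
    refine Or.inr (Or.inr (Or.inr (Or.inl ?_)))
    rw [hN4]
    exact double b a (by linear_combination habc) (Ne.symm hab) (by rw [hfabc]; ring)
  refine Or.inr (Or.inr (Or.inl (orderOf_dvd_of_aeval g (μ := 1) ?_)))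
  rw [← hf, hfabc]
  have hdv : ∀ x : F, x ≠ 0 → X - C x ∣ X ^ (q - 1) - C (1 : F) := by
    intro x hx
    rw [dvd_iff_isRoot, IsRoot.def, eval_sub, eval_pow, eval_X, eval_C,
      FiniteField.pow_card_sub_one_eq_one x hx, sub_self]
  refine IsCoprime.mul_dvd ((isCoprime_X_sub_C_of_isUnit_sub (sub_ne_zero.2 hab).isUnit).mul_right
    (isCoprime_X_sub_C_of_isUnit_sub (sub_ne_zero.2 hac).isUnit)) (hdv a ha0)
    (IsCoprime.mul_dvd (isCoprime_X_sub_C_of_isUnit_sub (sub_ne_zero.2 hbc).isUnit) (hdv b hb0) (hdv c hc0))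

theorem div_dvd_orderOf_mk {M : ℕ} (y : Matrix.SpecialLinearGroup (Fin 3) F)
    (hy : ∀ k : ℕ, (y : Matrix (Fin 3) (Fin 3) F) ^ k = 1 → M ∣ k) :
    M ∣ dThree F * orderOf (QuotientGroup.mk y : Matrix.ProjectiveSpecialLinearGroup (Fin 3) F) := by
  set t := orderOf (QuotientGroup.mk y : Matrix.ProjectiveSpecialLinearGroup (Fin 3) F)
  have h : (QuotientGroup.mk y : Matrix.ProjectiveSpecialLinearGroup (Fin 3) F) ^ t = 1 := pow_orderOf_eq_one _
  rw [← QuotientGroup.mk_pow, mk_eq_one_iff, Matrix.SpecialLinearGroup.coe_pow] at h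
  obtain ⟨c, hc⟩ := h
  refine hy _ ?_
  rw [mul_comm, pow_mul, hc, _root_.smul_pow, one_pow]
  have h3 : c ^ 3 = 1 := by
    have := congrArg Matrix.det hc
    rw [Matrix.det_pow, y.2, one_pow, Matrix.det_smul, Matrix.det_one, mul_one, Fintype.card_fin] at this
    exact this.symm
  have hc0 : c ≠ 0 := fun e => by simp [e] at h3
  rw [pow_gcd_eq_one.mpr ⟨h3, FiniteField.pow_card_sub_one_eq_one c hc0⟩, one_smul]

theorem exists_of_dvd {M m : ℕ} (hm : m ∣ M / dThree F) (hM : dThree F ∣ M)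
    (y : Matrix.SpecialLinearGroup (Fin 3) F) (hy : ∀ k : ℕ, (y : Matrix (Fin 3) (Fin 3) F) ^ k = 1 → M ∣ k) :
    m ∈ Set.range (orderOf : Matrix.ProjectiveSpecialLinearGroup (Fin 3) F → ℕ) := by
  have h := div_dvd_orderOf_mk y hy
  obtain ⟨c, hc⟩ := hM
  have hd : 0 < dThree F := Nat.gcd_pos_of_pos_left _ (by norm_num)
  rw [hc] at h hm
  rw [Nat.mul_div_cancel_left _ hd] at hm
  exact KS58.exists_orderOf_eq_of_dvd _ (hm.trans (Nat.dvd_of_mul_dvd_mul_left hd h))

theorem mem_spectrum_of_dvd (p : ℕ) [Fact p.Prime] [CharP F p] {m : ℕ}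
    (h : m ∣ (Fintype.card F ^ 2 + Fintype.card F + 1) / Nat.gcd 3 (Fintype.card F - 1) ∨
      m ∣ (Fintype.card F ^ 2 - 1) / Nat.gcd 3 (Fintype.card F - 1) ∨ m ∣ Fintype.card F - 1 ∨
      m ∣ p * (Fintype.card F - 1) / Nat.gcd 3 (Fintype.card F - 1) ∨ (p = 2 ∧ m ∣ 4)) :
    m ∈ Set.range (orderOf : Matrix.ProjectiveSpecialLinearGroup (Fin 3) F → ℕ) := by
  set q := Fintype.card F with hq
  have hq1 : 1 < q := Fintype.one_lt_card
  have hdq : dThree F ∣ q - 1 := Nat.gcd_dvd_right _ _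
  rcases h with h | h | h | h | ⟨rfl, h⟩
  · obtain ⟨g, hg⟩ := KS58.exists_gl_order_card_pow_sub_one (F := F) (n := 3) (d := 3) (by norm_num) le_rfl
    have hdet : ((g ^ (q - 1) : GL (Fin 3) F) : Matrix (Fin 3) (Fin 3) F).det = 1 := by
      rw [Units.val_pow_eq_pow_val, Matrix.det_pow]
      exact FiniteField.pow_card_sub_one_eq_one _ g.det.ne_zero
    refine exists_of_dvd h ?_ ⟨_, hdet⟩ fun k hk => ?_
    · obtain ⟨a, ha⟩ := hdq
      refine ⟨(dThree F * a * a + 3 * a) + 3 / dThree F, ?_⟩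
      have h3 := Nat.mul_div_cancel' (Nat.gcd_dvd_left 3 (q - 1))
      have hq' : q = dThree F * a + 1 := by omega
      rw [Nat.mul_add, hq', h3]
      ring
    · have h1 : (g ^ ((q - 1) * k)) = 1 := Units.ext (by
        rw [pow_mul, Units.val_pow_eq_pow_val]; exact hk)
      have h2 := orderOf_dvd_of_pow_eq_one h1
      rw [hg, show q ^ 3 - 1 = (q - 1) * (q ^ 2 + q + 1) by
        obtain ⟨a, ha⟩ : ∃ a, q = a + 1 := ⟨q - 1, by omega⟩
        rw [ha, Nat.add_sub_cancel]
        exact Nat.sub_eq_of_eq_add (by ring)] at h2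
      exact Nat.dvd_of_mul_dvd_mul_left (by omega) h2
  · obtain ⟨g, hg⟩ := KS58.exists_gl_order_card_pow_sub_one (F := F) (n := 2) (d := 2) (by norm_num) le_rfl
    set δ : F := (g : Matrix (Fin 2) (Fin 2) F).det with hδ
    have hδ0 : δ ≠ 0 := g.det.ne_zero
    refine exists_of_dvd h ?_
      ⟨blockMat (rfl : 2 + 1 = 3) (g : Matrix (Fin 2) (Fin 2) F) (δ⁻¹ • 1), by
        rw [det_blockMat, Matrix.det_smul, Matrix.det_one, Fintype.card_fin, pow_one, mul_one, ← hδ,
          mul_inv_cancel₀ hδ0]⟩ fun k hk => ?_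
    · exact hdq.trans ⟨q + 1, by rw [mul_comm, ← Nat.sq_sub_sq, one_pow]⟩
    · change blockMat (rfl : 2 + 1 = 3) (g : Matrix (Fin 2) (Fin 2) F) (δ⁻¹ • 1) ^ k = 1 at hk
      rw [blockMat_pow, ← blockMat_one (F := F) (rfl : 2 + 1 = 3)] at hk
      have h2 := (Matrix.reindexAlgEquiv F F _).injective hk
      rw [Matrix.fromBlocks_inj] at h2
      have hg1 : g ^ k = 1 := Units.ext (by rw [Units.val_pow_eq_pow_val]; exact h2.1)
      rw [← hg]
      exact orderOf_dvd_of_pow_eq_one hg1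
  · obtain ⟨z, hz⟩ := IsCyclic.exists_generator (α := Fˣ)
    have hzo := orderOf_eq_card_of_forall_mem_zpowers hz
    rw [Nat.card_units, Nat.card_eq_fintype_card] at hzo
    let d : Fin 3 → F := ![(z : F), ((z⁻¹ : Fˣ) : F), 1]
    set Y : Matrix.SpecialLinearGroup (Fin 3) F := ⟨Matrix.diagonal d, by
      rw [Matrix.det_diagonal, Fin.prod_univ_three]; simp [d]⟩
    refine KS58.exists_orderOf_eq_of_dvd (QuotientGroup.mk Y : Matrix.ProjectiveSpecialLinearGroup (Fin 3) F)
      (h.trans ?_)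
    rw [hq, ← hzo]
    refine orderOf_dvd_of_pow_eq_one ?_
    have h1 : (QuotientGroup.mk Y : Matrix.ProjectiveSpecialLinearGroup (Fin 3) F) ^
        orderOf (QuotientGroup.mk Y : Matrix.ProjectiveSpecialLinearGroup (Fin 3) F) = 1 := pow_orderOf_eq_one _
    generalize orderOf (QuotientGroup.mk Y : Matrix.ProjectiveSpecialLinearGroup (Fin 3) F) = t at h1 ⊢
    rw [← QuotientGroup.mk_pow, mk_eq_one_iff, Matrix.SpecialLinearGroup.coe_pow] at h1
    obtain ⟨c, hc⟩ := h1
    change Matrix.diagonal d ^ t = c • 1 at hc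
    rw [Matrix.diagonal_pow, Matrix.smul_one_eq_diagonal, Matrix.diagonal_eq_diagonal_iff] at hc
    have e0 := hc 0
    have e2 := hc 2
    simp [d] at e0 e2
    refine Units.ext ?_
    rw [Units.val_pow_eq_pow_val, e0, ← e2, Units.val_one]
  · obtain ⟨z, hz⟩ := IsCyclic.exists_generator (α := Fˣ)
    have hzo := orderOf_eq_card_of_forall_mem_zpowers hz
    rw [Nat.card_units, Nat.card_eq_fintype_card] at hzo
    obtain ⟨B, hB1, hB, hB'⟩ := exists_transvection_block (F := F) p
    refine exists_of_dvd h (hdq.mul_left p)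
      ⟨blockMat (rfl : 2 + 1 = 3) ((z : F) • B) ((((z : F) ^ 2)⁻¹) • 1), by
        rw [det_blockMat, Matrix.det_smul, Matrix.det_smul, Matrix.det_one, hB1, Fintype.card_fin, Fintype.card_fin,
          pow_one, mul_one, mul_one, mul_inv_cancel₀ (pow_ne_zero _ z.ne_zero)]⟩ fun k hk => ?_
    change blockMat (rfl : 2 + 1 = 3) ((z : F) • B) ((((z : F) ^ 2)⁻¹) • 1) ^ k = 1 at hk
    rw [blockMat_pow, ← blockMat_one (F := F) (rfl : 2 + 1 = 3)] at hk
    have h2 := (Matrix.reindexAlgEquiv F F _).injective hk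
    rw [Matrix.fromBlocks_inj] at h2
    have h3 : ((z : F) ^ k) • B ^ k = 1 := by rw [← _root_.smul_pow]; exact h2.1
    have hzp : z ^ k = 1 := by
      have h4 : ((z : F) ^ k) ^ p • (1 : Matrix (Fin 2) (Fin 2) F) = 1 := by
        have := congrArg (· ^ p) h3
        rw [_root_.smul_pow, ← pow_mul B, mul_comm k p, pow_mul, hB, one_pow, one_pow] at this
        exact this
      have h5 := congrFun (congrFun h4 0) 0
      simp at h5
      refine Units.ext ?_
      rw [Units.val_pow_eq_pow_val, Units.val_one]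
      refine (frobenius_inj F p) ?_
      show ((z : F) ^ k) ^ p = 1 ^ p
      rw [h5, one_pow]
    have hBk : B ^ k = 1 := by
      rw [← Units.val_pow_eq_pow_val, hzp, Units.val_one, one_smul] at h3
      exact h3
    have hpk : p ∣ k := by
      rw [← orderOf_eq_prime hB hB']
      exact orderOf_dvd_of_pow_eq_one hBk
    have hqk : q - 1 ∣ k := by rw [hq, ← hzo]; exact orderOf_dvd_of_pow_eq_one hzp
    exact ((Fact.out : p.Prime).coprime_iff_not_dvd.2 (not_dvd_card_sub_one_char p)).mul_dvd_of_dvd_of_dvd hpk hqk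
  · obtain ⟨g, hg⟩ := KS58.exists_gl_unipotent_order (F := F) (p := 2) (n := 3) (m := 3) (e := 1) le_rfl
      (by norm_num) (by norm_num)
    have hg4 : (g : Matrix (Fin 3) (Fin 3) F) ^ 4 = 1 := by
      rw [← Units.val_pow_eq_pow_val, show (4 : ℕ) = 2 ^ (1 + 1) from rfl, ← hg, pow_orderOf_eq_one, Units.val_one]
    have hdet : (g : Matrix (Fin 3) (Fin 3) F).det = 1 := by
      have h1 : (g : Matrix (Fin 3) (Fin 3) F).det ^ 2 ^ 2 = 1 := by
        rw [show (2 : ℕ) ^ 2 = 4 from rfl, ← Matrix.det_pow, hg4, Matrix.det_one]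
      exact iterateFrobenius_inj F 2 2 (by rw [iterateFrobenius_def, iterateFrobenius_def, one_pow, h1])
    have h2 := div_dvd_orderOf_mk (M := 4) ⟨(g : Matrix (Fin 3) (Fin 3) F), hdet⟩ fun k hk => by
      rw [show (4 : ℕ) = 2 ^ (1 + 1) from rfl, ← hg]
      exact orderOf_dvd_of_pow_eq_one (Units.ext (by rw [Units.val_pow_eq_pow_val]; exact hk))
    refine KS58.exists_orderOf_eq_of_dvd _ (h.trans (Nat.Coprime.dvd_of_dvd_mul_left ?_ h2))
    rcases dThree_cases F with e | e <;> rw [e] <;> decide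

end Cfsg.Agent.PrimeGraphPSL
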